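import Mathlib.Topology.Category.TopCommRingCat
import Mathlib.Algebra.Category.Ring.Limits
import Mathlib.Algebra.Category.Ring.Colimits
import Mathlib.Topology.Category.TopCat.Limits.Basic

set_option autoImplicit false

universe u

open CategoryTheory Limits Topology

namespace GrothLib.TopCRing

theorem induced_ring {A B : Type u} [CommRing A] [CommRing B] [tB : TopologicalSpace B] [IsTopologicalRing B]
    (g : A →+* B) : @IsTopologicalRing A (TopologicalSpace.induced g tB) _ := by
  letI : TopologicalSpace A := TopologicalSpace.induced g tB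
  haveI : ContinuousAdd A := continuousAdd_induced g
  haveI : ContinuousMul A := continuousMul_induced g
  haveI : ContinuousNeg A := ⟨continuous_induced_rng.2 (by
    simpa [Function.comp_def] using (continuous_induced_dom (f := g)).fun_neg)⟩
  exact {}

variable {J : Type u} [Category.{u} J] (F : J ⥤ TopCommRingCat.{u})

abbrev U : J ⥤ CommRingCat.{u} := F ⋙ forget₂ TopCommRingCat CommRingCat

noncomputable abbrev limTop : TopologicalSpace (limit (U F) : CommRingCat.{u}) :=
  ⨅ j, TopologicalSpace.induced (limit.π (U F) j).hom (F.obj j).isTopologicalSpace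

theorem lim_isTopologicalRing : @IsTopologicalRing _ (limTop F) _ := by
  have h : ∀ j, @IsTopologicalRing _ (TopologicalSpace.induced (limit.π (U F) j).hom (F.obj j).isTopologicalSpace) _ :=
    fun j => @induced_ring _ _ _ _ (F.obj j).isTopologicalSpace (F.obj j).isTopologicalRing (limit.π (U F) j).hom
  exact @IsTopologicalRing.mk _ (limTop F) _
    (@IsTopologicalSemiring.mk _ (limTop F) _ (continuousAdd_iInf fun j => (h j).toContinuousAdd)
      (continuousMul_iInf fun j => (h j).toContinuousMul))
    (continuousNeg_iInf fun j => (h j).toContinuousNeg)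

noncomputable def limPt : TopCommRingCat.{u} :=
  @TopCommRingCat.of (limit (U F) : CommRingCat.{u}) _ (limTop F) (lim_isTopologicalRing F)

noncomputable def limCone : Cone F where
  pt := limPt F
  π :=
    { app := fun j => ⟨(limit.π (U F) j).hom, continuous_iInf_dom continuous_induced_dom⟩
      naturality := fun i j f => Subtype.ext (congrArg CommRingCat.Hom.hom ((limit.cone (U F)).π.naturality f)) }

noncomputable def isLimit : IsLimit (limCone F) where
  lift s := ⟨(limit.lift (U F) ((forget₂ TopCommRingCat CommRingCat).mapCone s)).hom, by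
    refine continuous_iInf_rng.2 fun j => continuous_induced_rng.2 ?_
    have e := congrArg (fun m => ⇑(CommRingCat.Hom.hom m))
      (limit.lift_π ((forget₂ TopCommRingCat CommRingCat).mapCone s) j)
    exact Eq.mpr (congrArg _ e) (s.π.app j).2⟩
  fac s j := Subtype.ext (congrArg CommRingCat.Hom.hom
    (limit.lift_π ((forget₂ TopCommRingCat CommRingCat).mapCone s) j))
  uniq s m h := Subtype.ext (congrArg CommRingCat.Hom.hom
    (limit.hom_ext (f := CommRingCat.ofHom m.1) (f' := limit.lift (U F) ((forget₂ TopCommRingCat CommRingCat).mapCone s))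
      fun j => (CommRingCat.hom_ext (congrArg Subtype.val (h j) :)).trans
        (limit.lift_π ((forget₂ TopCommRingCat CommRingCat).mapCone s) j).symm))

instance : HasLimit F := ⟨⟨⟨_, isLimit F⟩⟩⟩

instance preservesLimit_ring : PreservesLimit F (forget₂ TopCommRingCat CommRingCat) :=
  preservesLimit_of_preserves_limit_cone (isLimit F) (IsLimit.ofIsoLimit (limit.isLimit (U F))
    (Cone.ext (Iso.refl _) fun j => (Category.id_comp _).symm))

instance preservesLimit_top : PreservesLimit F (forget₂ TopCommRingCat TopCat) := by
  refine preservesLimit_of_preserves_limit_cone (isLimit F) ?_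
  refine Nonempty.some ((TopCat.nonempty_isLimit_iff_eq_induced _ ?_).2 ?_)
  · exact IsLimit.ofIsoLimit (isLimitOfPreserves (forget CommRingCat.{u}) (limit.isLimit (U F)))
      (Cone.ext (Iso.refl _) fun j => (Category.id_comp _).symm)
  · rfl

variable (G : J ⥤ TopCommRingCat.{u})

noncomputable abbrev colTop : RingTopology (colimit (U G) : CommRingCat.{u}) :=
  sInf {b | ∀ j, @Continuous _ _ (G.obj j).isTopologicalSpace b.toTopologicalSpace (colimit.ι (U G) j).hom}

noncomputable def colPt : TopCommRingCat.{u} :=
  @TopCommRingCat.of (colimit (U G) : CommRingCat.{u}) _ (colTop G).toTopologicalSpace (colTop G).toIsTopologicalRing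

noncomputable def colCocone : Cocone G where
  pt := colPt G
  ι :=
    { app := fun j => ⟨(colimit.ι (U G) j).hom,
        continuous_sInf_rng.2 (Set.forall_mem_image.2 fun _ hb => hb j)⟩
      naturality := fun i j f => Subtype.ext (congrArg CommRingCat.Hom.hom ((colimit.cocone (U G)).ι.naturality f)) }

noncomputable def isColimit : IsColimit (colCocone G) where
  desc s := ⟨(colimit.desc (U G) ((forget₂ TopCommRingCat CommRingCat).mapCocone s)).hom, by
    let g := (colimit.desc (U G) ((forget₂ TopCommRingCat CommRingCat).mapCocone s)).hom
    let b : RingTopology (colimit (U G) : CommRingCat.{u}) :=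
      { toTopologicalSpace := TopologicalSpace.induced g s.pt.isTopologicalSpace
        toIsTopologicalRing := @induced_ring _ _ _ _ s.pt.isTopologicalSpace s.pt.isTopologicalRing g }
    have hb : colTop G ≤ b := sInf_le fun j => by
      refine continuous_induced_rng.2 ?_
      have e := congrArg (fun m => ⇑(CommRingCat.Hom.hom m))
        (colimit.ι_desc ((forget₂ TopCommRingCat CommRingCat).mapCocone s) j)
      exact Eq.mpr (congrArg _ e) (s.ι.app j).2
    exact continuous_le_dom hb continuous_induced_dom⟩
  fac s j := Subtype.ext (congrArg CommRingCat.Hom.hom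
    (colimit.ι_desc ((forget₂ TopCommRingCat CommRingCat).mapCocone s) j))
  uniq s m h := Subtype.ext (congrArg CommRingCat.Hom.hom
    (colimit.hom_ext (f := CommRingCat.ofHom m.1) (f' := colimit.desc (U G) ((forget₂ TopCommRingCat CommRingCat).mapCocone s))
      fun j => (CommRingCat.hom_ext (congrArg Subtype.val (h j) :)).trans
        (colimit.ι_desc ((forget₂ TopCommRingCat CommRingCat).mapCocone s) j).symm))

instance : HasColimit G := ⟨⟨⟨_, isColimit G⟩⟩⟩

instance preservesColimit_ring : PreservesColimit G (forget₂ TopCommRingCat CommRingCat) :=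
  preservesColimit_of_preserves_colimit_cocone (isColimit G) (IsColimit.ofIsoColimit (colimit.isColimit (U G))
    (Cocone.ext (Iso.refl _) fun j => Category.comp_id _))

end GrothLib.TopCRing
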